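import Groth.Prelude.Def_AutSch
import Groth.Prelude.Def_CurvBase
import Groth.Agent.CurveModel24.FieldPoint
import Groth.Agent.S18894
import Groth.Agent.InfAut29.Auto
import Groth.Agent.IsoNatLib.Tangent.Crit
import Groth.Agent.OmegaDual24.Main
import Groth.Agent.VB5.Split
import Groth.Agent.GenOneBC5.Lines

/-!
# Families of automorphisms of curves of genus at least two
-/

set_option autoImplicit false
set_option linter.style.haveILetI false
set_option linter.unusedSectionVars false
set_option backward.isDefEq.respectTransparency.types false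
set_option maxHeartbeats 1000000

universe u

open CategoryTheory CategoryTheory.Limits MonoidalCategory CartesianMonoidalCategory MonObj GrpObj AlgebraicGeometry
open Groth.Agent.IsoNatLib.Tangent

namespace Groth.Agent.AutCurve24

variable {S : Scheme.{u}} {X : Over S}

theorem endOf_fst_eq (T : Over S) : AutSch.endOf (fst X T) = 𝟙 (X ⊗ T) := by
  simp [AutSch.endOf]

theorem isAutFamily_fst (T : Over S) : AutSch.IsAutFamily (fst X T) := by
  rw [AutSch.IsAutFamily, endOf_fst_eq]; infer_instance

theorem famOf_one {G : Over S} [GrpObj G] (a : AlgGrp.Action G X) (T : Over S) :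
    AutSch.famOf a (1 : T ⟶ G) = fst X T := by
  have h : lift (snd X T ≫ (1 : T ⟶ G)) (fst X T) = lift (toUnit (X ⊗ T)) (fst X T) ≫ (η[G] ▷ X) := by
    refine CartesianMonoidalCategory.hom_ext _ _ ?_ ?_
    · rw [lift_fst, Category.assoc, whiskerRight_fst, lift_fst_assoc, MonObj.comp_one, Hom.one_def]
    · rw [lift_snd, Category.assoc, whiskerRight_snd, lift_snd]
  rw [AutSch.famOf, h, Category.assoc, a.one_act, leftUnitor_hom, lift_snd]

theorem endOf_famOf_comp {G : Over S} [GrpObj G] (a : AlgGrp.Action G X) {T : Over S} (g h : T ⟶ G) :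
    AutSch.endOf (AutSch.famOf a g) ≫ AutSch.endOf (AutSch.famOf a h) =
      AutSch.endOf (AutSch.famOf a (h * g)) := by
  refine CartesianMonoidalCategory.hom_ext _ _ ?_ (by simp)
  rw [Category.assoc, AutSch.endOf_fst, AutSch.endOf_fst]
  have h1 : lift (snd X T ≫ (h * g)) (fst X T) =
      lift (lift (snd X T ≫ h) (snd X T ≫ g)) (fst X T) ≫ (μ[G] ▷ X) := by
    refine CartesianMonoidalCategory.hom_ext _ _ ?_ ?_
    · rw [lift_fst, Category.assoc, whiskerRight_fst, lift_fst_assoc, ← Hom.mul_def, MonObj.comp_mul]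
    · rw [lift_snd, Category.assoc, whiskerRight_snd, lift_snd]
  conv_rhs => rw [AutSch.famOf, h1, Category.assoc, a.mul_act]
  have h2 : lift (lift (snd X T ≫ h) (snd X T ≫ g)) (fst X T) ≫ (α_ G G X).hom ≫ (G ◁ a.act) =
      lift (snd X T ≫ h) (AutSch.famOf a g) := by
    refine CartesianMonoidalCategory.hom_ext _ _ ?_ ?_
    · simp
    · simp [AutSch.famOf, ← Category.assoc, comp_lift]

  rw [← Category.assoc (f := (α_ G G X).hom), ← Category.assoc, h2]
  show AutSch.endOf (AutSch.famOf a g) ≫ lift (snd X T ≫ h) (fst X T) ≫ a.act = _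
  rw [← Category.assoc, comp_lift, AutSch.endOf_fst, ← Category.assoc (AutSch.endOf _) (snd X T), AutSch.endOf_snd]

theorem isAutFamily_famOf {G : Over S} [GrpObj G] (a : AlgGrp.Action G X) {T : Over S} (g : T ⟶ G) :
    AutSch.IsAutFamily (AutSch.famOf a g) :=
  ⟨⟨AutSch.endOf (AutSch.famOf a g⁻¹),
    by rw [endOf_famOf_comp, inv_mul_cancel, famOf_one, endOf_fst_eq],
    by rw [endOf_famOf_comp, mul_inv_cancel, famOf_one, endOf_fst_eq]⟩⟩

theorem isPullback_whiskerLeft {T T' : Over S} (j : T' ⟶ T) :
    IsPullback (X ◁ j).left (snd X T').left (snd X T).left j.left := by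
  refine IsPullback.of_right (h₁₂ := (fst X T).left) (h₂₂ := T.hom) (v₁₃ := X.hom) ?_ ?_ ?_
  · rw [← Over.comp_left, whiskerLeft_fst, Over.w j]
    exact IsPullback.of_hasPullback X.hom T'.hom
  · exact congrArg CommaMorphism.left (whiskerLeft_snd X j)
  · exact IsPullback.of_hasPullback X.hom T.hom

/-- No vector fields on a curve of genus at least two. -/
theorem subsingleton_hom_omega {k : Type u} [Field k] {C : Scheme.{u}} (p : C ⟶ Spec (CommRingCat.of k))
    [IsProper p] [Smooth p] [GeometricallyConnected p] (hdim : topologicalKrullDim C = 1)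
    (hg : 2 ≤ @Curv2.genus k _ C ⟨p⟩) : Subsingleton (Omega.sheaf p ⟶ Coh.structureModule C) := by
  letI : C.Over (Spec (CommRingCat.of k)) := ⟨p⟩
  haveI : IsProper (C ↘ Spec (CommRingCat.of k)) := ‹IsProper p›
  haveI : Smooth (C ↘ Spec (CommRingCat.of k)) := ‹Smooth p›
  haveI : GeometricallyIntegral (C ↘ Spec (CommRingCat.of k)) := AbVarLib.geometricallyIntegral_of_smooth p
  haveI : ConnectedSpace C := GeometricallyConnected.connectedSpace_of_subsingleton p
  haveI : IsIntegral C := AbVarLib.isIntegral_of_smooth_connected p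
  haveI := CurveRR24.isLocallyNoetherian_of_proper k (X := C)
  refine subsingleton_of_forall_eq 0 fun f => ?_
  by_contra hf
  have hΩ : PicF.IsInvertible (Omega.sheaf p) := OmegaDual24.isInvertible_omega (k := k) hdim
  have hO : PicF.IsInvertible (Coh.structureModule C) := AmpleLib.isInvertible_structureModule
  have h1 := (VB5.line_map k hdim (VB5.isIntegrallyClosed' k hdim) hΩ hO f hf).1
  rw [VB5.gdeg_structure k hdim, ← VB5.deg_line k hΩ] at h1
  have h2 : Curv2.deg k C (Omega.sheaf p) 1 = 2 * (Curv2.genus k C : ℤ) - 2 := OmegaDual24.deg_omega k hdim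
  omega

variable [IsProper X.hom] [Smooth X.hom] [GeometricallyConnected X.hom]
  (hdim : ∀ s : S, topologicalKrullDim ↥(X.hom.fiber s) = 1) (g : ℕ) (hg : 2 ≤ g)
  (hgen : ∀ s : S, letI : (X.hom.fiber s).Over (Spec (S.residueField s)) := ⟨X.hom.fiberToSpecResidueField s⟩
    Curv2.genus (S.residueField s) (X.hom.fiber s) = g)
include hdim hg hgen

/-- A family over dual numbers which is trivial at the closed point is trivial. -/
theorem eq_fst_of_dual {K : Type u} [Field K] (y : Spec (CommRingCat.of K) ⟶ S)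
    (ψ : X ⊗ Over.mk (proj K ≫ y) ⟶ X) (i₀ : Over.mk y ⟶ Over.mk (proj K ≫ y)) (hi₀ : i₀.left = clPt K)
    (h : AutSch.pullFam i₀ ψ = fst X (Over.mk y)) : ψ = fst X _ := by
  let T1 : Over S := Over.mk (proj K ≫ y)
  let T0 : Over S := Over.mk y
  let x : (X ⊗ T0).left ⟶ Spec (CommRingCat.of K) := (snd X T0).left
  haveI : IsProper x := MorphismProperty.pullback_snd (P := @IsProper) X.hom y inferInstance
  haveI : Smooth x := MorphismProperty.pullback_snd (P := @Smooth) X.hom y inferInstance
  haveI : GeometricallyConnected x :=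
    MorphismProperty.pullback_snd (P := @GeometricallyConnected) X.hom y inferInstance
  obtain ⟨s, hd, hgs⟩ := CurveModel24.fibre_invariants X.hom y
  have hge : 2 ≤ @Curv2.genus K _ (X ⊗ T0).left ⟨x⟩ := by
    change 2 ≤ @Curv2.genus K _ (pullback X.hom y) ⟨pullback.snd X.hom y⟩
    rw [hgs, hgen s]; exact hg
  have h0 := subsingleton_hom_omega x (hd.trans (hdim s)) hge
  haveI : Flat (snd X T1).left := MorphismProperty.pullback_snd (P := @Flat) X.hom T1.hom inferInstance
  haveI : Module.Finite K (DualNumber K) := inferInstanceAs (Module.Finite K (K × K))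
  haveI : IsArtinianRing (DualNumber K) := IsArtinianRing.of_finite K (DualNumber K)
  have hr : Function.Surjective (TrivSqZeroExt.fstHom K K K).toRingHom :=
    fun r => ⟨TrivSqZeroExt.inl r, TrivSqZeroExt.fst_inl K r⟩
  have sq := isPullback_whiskerLeft (X := X) i₀
  rw [hi₀] at sq
  have he := InfAut29.eq_id (x := x) hr sq h0 (AutSch.endOf ψ).left
    (congrArg CommaMorphism.left (AutSch.endOf_snd ψ)) (by
      rw [← Over.comp_left]
      refine congrArg CommaMorphism.left (CartesianMonoidalCategory.hom_ext _ _ ?_ ?_)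
      · rw [Category.assoc, AutSch.endOf_fst, whiskerLeft_fst]; exact h
      · rw [Category.assoc, AutSch.endOf_snd])
  have he' : AutSch.endOf ψ = 𝟙 _ := Over.OverMorphism.ext he
  rw [← AutSch.endOf_fst ψ, he', Category.id_comp]

/-- Families of automorphisms extend uniquely over discrete valuation rings. -/
theorem existsUnique_extend {A : Type u} [CommRing A] [IsDomain A] [IsDiscreteValuationRing A]
    (y : Spec (CommRingCat.of A) ⟶ S)
    (j : Over.mk (Spec.map (CommRingCat.ofHom (algebraMap A (FractionRing A))) ≫ y) ⟶ Over.mk y)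
    (hj : j.left = Spec.map (CommRingCat.ofHom (algebraMap A (FractionRing A))))
    (φ : X ⊗ Over.mk (Spec.map (CommRingCat.ofHom (algebraMap A (FractionRing A))) ≫ y) ⟶ X)
    (hφ : AutSch.IsAutFamily φ) :
    ∃ ψ : X ⊗ Over.mk y ⟶ X, AutSch.IsAutFamily ψ ∧ AutSch.pullFam j ψ = φ ∧
      ∀ ψ' : X ⊗ Over.mk y ⟶ X, AutSch.pullFam j ψ' = φ → ψ' = ψ := by
  let bK := Spec.map (CommRingCat.ofHom (algebraMap A (FractionRing A)))
  let T : Over S := Over.mk y
  let TK : Over S := Over.mk (bK ≫ y)
  let f : (X ⊗ T).left ⟶ Spec (CommRingCat.of A) := (snd X T).left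
  haveI : IsProper f := MorphismProperty.pullback_snd (P := @IsProper) X.hom y inferInstance
  haveI : Smooth f := MorphismProperty.pullback_snd (P := @Smooth) X.hom y inferInstance
  haveI : GeometricallyConnected f :=
    MorphismProperty.pullback_snd (P := @GeometricallyConnected) X.hom y inferInstance
  have fib : ∀ s, topologicalKrullDim ↥(f.fiber s) = 1 ∧
      letI : (f.fiber s).Over (Spec ((Spec (CommRingCat.of A)).residueField s)) := ⟨f.fiberToSpecResidueField s⟩
      Curv2.genus ((Spec (CommRingCat.of A)).residueField s) (f.fiber s) = g := fun s => by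
    obtain ⟨t, hd, hgt⟩ := CurveModel24.fibre_invariants (K := (Spec (CommRingCat.of A)).residueField s) X.hom
      ((Spec (CommRingCat.of A)).fromSpecResidueField s ≫ y)
    let e := pullbackLeftPullbackSndIso X.hom y ((Spec (CommRingCat.of A)).fromSpecResidueField s)
    refine ⟨(e.hom.homeomorph.isHomeomorph.topologicalKrullDim_eq).trans (hd.trans (hdim t)), ?_⟩
    letI : (f.fiber s).Over (Spec (CommRingCat.of ((Spec (CommRingCat.of A)).residueField s))) :=
      ⟨f.fiberToSpecResidueField s⟩
    letI : (pullback X.hom ((Spec (CommRingCat.of A)).fromSpecResidueField s ≫ y)).Over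
        (Spec (CommRingCat.of ((Spec (CommRingCat.of A)).residueField s))) := ⟨pullback.snd _ _⟩
    rw [← hgen t, ← hgt]
    haveI : QuasiCompact (pullback.snd X.hom ((Spec (CommRingCat.of A)).fromSpecResidueField s ≫ y)) :=
      MorphismProperty.pullback_snd (P := @QuasiCompact) _ _ inferInstance
    haveI : QuasiSeparated (pullback.snd X.hom ((Spec (CommRingCat.of A)).fromSpecResidueField s ≫ y)) :=
      MorphismProperty.pullback_snd (P := @QuasiSeparated) _ _ inferInstance
    haveI : CompactSpace ↥(pullback X.hom ((Spec (CommRingCat.of A)).fromSpecResidueField s ≫ y)) :=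
      QuasiCompact.compactSpace_of_compactSpace (pullback.snd X.hom _)
    haveI : QuasiSeparatedSpace ↥(pullback X.hom ((Spec (CommRingCat.of A)).fromSpecResidueField s ≫ y)) :=
      quasiSeparatedSpace_of_quasiSeparated (pullback.snd X.hom _)
    haveI : IsIso (Spec.map (CommRingCat.ofHom (algebraMap ((Spec (CommRingCat.of A)).residueField s)
        ((Spec (CommRingCat.of A)).residueField s)))) := by
      rw [Algebra.algebraMap_self, CommRingCat.ofHom_id, Spec.map_id]; infer_instance
    refine CurveRR24.genus_bc (g := e.hom) (IsPullback.of_horiz_isIso ⟨?_⟩)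
    rw [Algebra.algebraMap_self, CommRingCat.ofHom_id, Spec.map_id, Category.comp_id]
    exact pullbackLeftPullbackSndIso_hom_snd X.hom y _
  have sqL := isPullback_whiskerLeft (X := X) j
  rw [hj] at sqL
  haveI : IsIso (AutSch.endOf φ) := hφ
  let E : (X ⊗ TK).left ≅ (X ⊗ TK).left := (Over.forget S).mapIso (asIso (AutSch.endOf φ))
  have hE : E.hom ≫ (snd X TK).left = (snd X TK).left := congrArg CommaMorphism.left (AutSch.endOf_snd φ)
  let Φ : pullback f bK ≅ pullback f bK := sqL.isoPullback.symm ≪≫ E ≪≫ sqL.isoPullback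
  have hΦ : Φ.hom ≫ pullback.snd f bK = pullback.snd f bK := by
    simp only [Φ, Iso.trans_hom, Iso.symm_hom, Category.assoc]
    erw [sqL.isoPullback_hom_snd, hE, sqL.isoPullback_inv_snd]
  obtain ⟨e, he, he', hu⟩ := Groth.Agent.S18894.result f f (fun s => (fib s).1) (fun s => (fib s).1) g (by omega)
    (fun s => (fib s).2) (fun s => (fib s).2) bK rfl Φ hΦ
  have hkey : (X ◁ j).left ≫ e.hom = E.hom ≫ (X ◁ j).left := by
    rw [← sqL.isoPullback_hom_fst, Category.assoc, he', ← Category.assoc]
    simp only [Φ, Iso.trans_hom, Iso.symm_hom, Category.assoc, Iso.hom_inv_id_assoc]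
    erw [sqL.isoPullback_hom_fst]
  have hw : e.hom ≫ (X ⊗ T).hom = (X ⊗ T).hom := by
    rw [← Over.w (snd X T), ← Category.assoc, he]
  let ψ : X ⊗ T ⟶ X := (Over.homMk e.hom hw : X ⊗ T ⟶ X ⊗ T) ≫ fst X T
  have hψ : AutSch.endOf ψ = Over.homMk e.hom hw := by
    refine CartesianMonoidalCategory.hom_ext _ _ (AutSch.endOf_fst _) ?_
    rw [AutSch.endOf_snd]
    exact (Over.OverMorphism.ext he).symm
  have hpull : ∀ χ : X ⊗ T ⟶ X, AutSch.pullFam j χ = φ →
      (X ◁ j).left ≫ (AutSch.endOf χ).left = E.hom ≫ (X ◁ j).left := fun χ hχ => by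
    show (X ◁ j ≫ AutSch.endOf χ).left = (AutSch.endOf φ ≫ X ◁ j).left
    congr 1
    refine CartesianMonoidalCategory.hom_ext _ _ ?_ ?_
    · simp only [Category.assoc, AutSch.endOf_fst, whiskerLeft_fst, ← hχ, AutSch.pullFam]
    · simp only [Category.assoc, AutSch.endOf_snd, whiskerLeft_snd, AutSch.endOf_snd_assoc]
  refine ⟨ψ, ?_, ?_, fun ψ' h' => ?_⟩
  · rw [AutSch.IsAutFamily, hψ]
    haveI : IsIso ((Over.forget S).map (Over.homMk e.hom hw : X ⊗ T ⟶ X ⊗ T)) := e.isIso_hom
    exact isIso_of_reflects_iso _ (Over.forget S)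
  · apply Over.OverMorphism.ext
    show (X ◁ j).left ≫ e.hom ≫ (fst X T).left = φ.left
    rw [← Category.assoc, hkey, Category.assoc, ← Over.comp_left (f := X ◁ j), whiskerLeft_fst]
    exact congrArg CommaMorphism.left (AutSch.endOf_fst φ)
  · have h1 := hu (AutSch.endOf ψ').left (by
      rw [← sqL.isoPullback_inv_fst, Category.assoc, hpull ψ' h']
      simp only [Φ, Iso.trans_hom, Iso.symm_hom, Category.assoc]
      erw [sqL.isoPullback.hom_inv_id_assoc])
    have h2 : AutSch.endOf ψ' = Over.homMk e.hom hw := Over.OverMorphism.ext h1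
    rw [← AutSch.endOf_fst ψ', h2]

end Groth.Agent.AutCurve24
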